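import Groth.Agent.Sga3.H806.ApproxConn
import Groth.Agent.Sga3.H816.AffModel

/-!
# Noetherian approximation of smooth group schemes with connected affine fibres

`exists_noetherian_affine`: a smooth quasi-compact quasi-separated group scheme over `Spec R` with connected
affine fibres is the base change of such a group scheme over a finitely generated subring of `R`.
-/

set_option autoImplicit false
universe u

open CategoryTheory MonoidalCategory CartesianMonoidalCategory AlgebraicGeometry Limits MonObj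

namespace Groth.Agent.Sga3.H430.NoethAff

open Groth.Agent.Sga3B Groth.Agent.Sga3.H816.AffFibStage Groth.Agent.Sga3.H816.AffModel
  Groth.Agent.Sga3.H806.ApproxConn Groth.Agent.Sga3.H778.NeutralOpen Groth.Agent.Sga3.H778.NeutralPts

variable {S S' : Scheme.{u}}

/-- If the neutral set is everything, the fibres are connected. -/
theorem conn_of_neutralSet_eq_univ (G : Over S) [GrpObj G] (h : SGA3x.neutralSet G = Set.univ) (s : S) :
    _root_.IsConnected (G.hom ⁻¹' {s}) := by
  have hs : unitSec G s ∈ G.hom ⁻¹' {s} := hom_unitSec G s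
  have h1 : G.hom ⁻¹' {s} ⊆ connectedComponentIn (G.hom ⁻¹' {s}) (unitSec G s) := by
    intro x hx
    have hx' : x ∈ SGA3x.neutralSet G := h ▸ Set.mem_univ x
    rw [neutralSet_eq] at hx'
    have hx'' : G.hom x = s := hx
    simp only [MoreMor.sectionComponents, Set.mem_ofPred_eq] at hx'
    rw [hx''] at hx'
    exact hx'
  have h2 : connectedComponentIn (G.hom ⁻¹' {s}) (unitSec G s) = G.hom ⁻¹' {s} :=
    Set.Subset.antisymm (connectedComponentIn_subset _ _) h1
  rw [← h2]
  exact isConnected_connectedComponentIn_iff.mpr hs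

/-- Connectedness of the fibres of a group scheme is stable under base change. -/
theorem conn_bc (q : S' ⟶ S) (G : Over S) [GrpObj G] (h : ∀ s : S, _root_.IsConnected (G.hom ⁻¹' {s}))
    (s : S') : _root_.IsConnected ((Red.bc q G).hom ⁻¹' {s}) := by
  refine conn_of_neutralSet_eq_univ _ ?_ s
  rw [← preimage_neutralSet, neutralSet_eq_univ G h, Set.preimage_univ]

/-- **Noetherian approximation of smooth group schemes with connected affine fibres.** -/
theorem exists_noetherian_affine {R : Type u} [CommRing R] (G : Over (Spec (CommRingCat.of R))) [GrpObj G]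
    [Smooth G.hom] [QuasiCompact G.hom] [QuasiSeparated G.hom]
    (haff : ∀ s, IsAffine (pullback G.hom ((Spec (CommRingCat.of R)).fromSpecResidueField s)))
    (hconn : ∀ s, _root_.IsConnected (G.hom.base ⁻¹' {s})) :
    ∃ (R₀ : Subalgebra ℤ R) (_ : R₀.FG) (G₀ : Over (Spec (CommRingCat.of R₀))) (_ : GrpObj G₀),
      Smooth G₀.hom ∧ QuasiCompact G₀.hom ∧ IsSeparated G₀.hom ∧
      (∀ s, IsAffine (pullback G₀.hom ((Spec (CommRingCat.of R₀)).fromSpecResidueField s))) ∧
      (∀ s, _root_.IsConnected (G₀.hom.base ⁻¹' {s})) ∧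
      Nonempty (Grp.mk (Red.bc (Spec.map (CommRingCat.ofHom R₀.val.toRingHom)) G₀) ≅ Grp.mk G) := by
  obtain ⟨A₀, G₀, hG₀, hfg, hs, hqc, hsep, hc, ⟨e⟩⟩ := exists_noetherian_conn G hconn
  have h5 : Fib (pullback.snd G₀.hom (Spec.map (CommRingCat.ofHom (algebraMap A₀ R)))) :=
    Fib.of_grpIso (G := Red.bc (Spec.map (CommRingCat.ofHom A₀.val.toRingHom)) G₀) e haff
  obtain ⟨A₁, h6, h7⟩ := exists_subalgebra G₀.hom h5
  have h8 : Algebra.FiniteType ℤ A₀ := (Subalgebra.fg_iff_finiteType _).mp hfg
  have h9 : Algebra.FiniteType ℤ A₁ := Algebra.FiniteType.trans (S := A₀) h8 h6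
  let q : Spec (CommRingCat.of (A₁.restrictScalars ℤ)) ⟶ Spec (CommRingCat.of A₀) :=
    Spec.map (CommRingCat.ofHom (algebraMap A₀ A₁))
  have hψ : Spec.map (CommRingCat.ofHom (A₁.restrictScalars ℤ).val.toRingHom) ≫ q =
      Spec.map (CommRingCat.ofHom A₀.val.toRingHom) := by
    rw [← Spec.map_comp, ← CommRingCat.ofHom_comp]
    rfl
  refine ⟨A₁.restrictScalars ℤ, (Subalgebra.fg_iff_finiteType _).mpr h9, Red.bc q G₀, inferInstance,
    ?_, ?_, ?_, h7, ?_, ?_⟩
  · exact inferInstanceAs (Smooth (pullback.snd G₀.hom q))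
  · exact inferInstanceAs (QuasiCompact (pullback.snd G₀.hom q))
  · exact inferInstanceAs (IsSeparated (pullback.snd G₀.hom q))
  · exact conn_bc q G₀ hc
  · exact ⟨(BcIso.bcCompIso _ q G₀).symm ≪≫ BcIso.bcCongrIso hψ G₀ ≪≫ e⟩

end Groth.Agent.Sga3.H430.NoethAff
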